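import Mathlib
import Cfsg.Agent.Lib.Helper79.CS3.EndDefs

/-!
# Project CS3 (S4284), part [END]: package [II5] (CASE II is contradictory)
-/

set_option autoImplicit false

namespace Cfsg.Agent.Lib.Helper90.CS3

open Cfsg.Agent.Lib.Helper79.CS3

universe u

/-- `|H ⊓ K| * |K : H ⊓ K| = |K|`. -/
theorem card_inf_mul_relIndex' {G : Type u} [Group G] (H K : Subgroup G) :
    Nat.card ↥(H ⊓ K) * H.relIndex K = Nat.card K := by
  have h1 := (H.subgroupOf K).card_mul_index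
  have h2 : Nat.card (H.subgroupOf K) = Nat.card ↥(H ⊓ K) := by
    rw [← Subgroup.inf_subgroupOf_right]
    exact Nat.card_congr (Subgroup.subgroupOfEquivOfLe inf_le_right).toEquiv
  rw [h2] at h1
  exact h1

/-- Package [II5], from [II4], [II12], [E7], [E4]. -/
theorem pkgII5_of (hII4 : PkgII4.{u}) (hII12 : PkgII12.{u}) (hE7 : PkgE7.{u})
    (hE4 : PkgE4.{u}) : PkgII5.{u} := by
  intro G _ _ m n Q P p hS hII hmp
  have hQn : Q.Normal := hS.s0.qn
  have hQc := hS.s0.qc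
  have hpp := hS.pp
  have hcop : (Nat.card Q).Coprime p := hmp ▸ hS.s0.qm
  obtain ⟨hcomm, hpow, hcard⟩ := hII4 m n Q P p hS hII hmp
  obtain ⟨hnc, -⟩ := hE4 m n Q P hS.s0
  obtain ⟨g, hgP, hgC⟩ := SetLike.not_le_iff_exists.mp hnc
  rw [Subgroup.mem_centralizer_iff] at hgC
  push_neg at hgC
  obtain ⟨q0, hq0, hne⟩ := hgC
  have hgZ : g ∉ Subgroup.center G := by
    intro hz
    exact hne (Subgroup.mem_center_iff.mp hz q0)
  obtain ⟨hidx_g, hab_g, y, hyQ, hyZ, hgy⟩ := hII12 m n Q P p hS hII g hgP hgZ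
  have hgy' : g * y = y * g := (hgy g hgP).mp rfl
  -- the key fact: `[Q, g] ∩ C_Q(g) = 1`
  have key : ∀ x ∈ Q, ∀ c ∈ Q, g * x * g⁻¹ = x * c → g * c = c * g → c = 1 := by
    intro x hx c hc hxc hgc
    have hind : ∀ k : ℕ, g ^ k * x * (g ^ k)⁻¹ = x * c ^ k := by
      intro k
      induction k with
      | zero => simp
      | succ k ih =>
        have h1 : g ^ (k + 1) * x * (g ^ (k + 1))⁻¹ = g * (g ^ k * x * (g ^ k)⁻¹) * g⁻¹ := by
          rw [pow_succ']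
          group
        have h2 : g * c ^ k * g⁻¹ = c ^ k := by
          have hck : Commute g (c ^ k) := (show Commute g c from hgc).pow_right k
          rw [hck.eq, mul_inv_cancel_right]
        have h3 : g * (x * c ^ k) * g⁻¹ = (g * x * g⁻¹) * (g * c ^ k * g⁻¹) := by group
        rw [h1, ih, h3, hxc, h2, mul_assoc, ← pow_succ']
    have hp := hind p
    have hgp : g ^ p * x = x * g ^ p := (Subgroup.mem_center_iff.mp (hpow g hgP) x).symm
    have hcp : c ^ p = 1 := by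
      have h4 : g ^ p * x * (g ^ p)⁻¹ = x := by rw [hgp, mul_inv_cancel_right]
      rw [h4] at hp
      exact mul_left_cancel (a := x) (b := c ^ p) (c := 1) (by rw [mul_one]; exact hp.symm)
    have hcQ : c ^ Nat.card Q = 1 := by
      have h2 : ((⟨c, hc⟩ : Q) ^ Nat.card Q : Q) = 1 := pow_card_eq_one'
      have h3 : ((⟨c, hc⟩ : Q) : G) ^ Nat.card Q = ((1 : Q) : G) := by
        rw [← Subgroup.coe_pow, h2]
      exact h3
    have hd := Nat.dvd_gcd (orderOf_dvd_of_pow_eq_one hcQ) (orderOf_dvd_of_pow_eq_one hcp)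
    rw [show Nat.gcd (Nat.card Q) p = 1 from hcop] at hd
    exact orderOf_eq_one_iff.mp (Nat.dvd_one.mp hd)
  -- the element `u = [q0, g] ≠ 1`
  have hgq0 : g * q0 * g⁻¹ ∈ Q := hQn.conj_mem q0 hq0 g
  obtain ⟨u, hu⟩ : ∃ u : G, u = q0⁻¹ * (g * q0 * g⁻¹) := ⟨_, rfl⟩
  have huQ : u ∈ Q := by
    rw [hu]
    exact Q.mul_mem (Q.inv_mem hq0) hgq0
  have hxu : g * q0 * g⁻¹ = q0 * u := by rw [hu, mul_inv_cancel_left]
  have hu1 : u ≠ 1 := by
    intro h1
    rw [h1, mul_one] at hxu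
    apply hne
    have h2 := congrArg (fun t => t * g) hxu
    simp only [inv_mul_cancel_right] at h2
    exact h2.symm
  have hgu : g * u ≠ u * g := fun h => hu1 (key q0 hq0 u huQ hxu h)
  -- `v = y u`
  have hvQ : y * u ∈ Q := Q.mul_mem hyQ huQ
  have hvZ : y * u ∉ Subgroup.center G := by
    intro hz
    apply hgu
    have h1 : g * (y * u) = (y * u) * g := Subgroup.mem_center_iff.mp hz g
    rw [← mul_assoc, hgy', mul_assoc, mul_assoc] at h1
    exact mul_left_cancel h1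
  obtain ⟨hidx_v, -⟩ := hE7 m n Q P p hS (y * u) hvQ hvZ
  -- some `h ∈ C_P(v)` is not central
  obtain ⟨h, hhP, hhv, hhZ⟩ : ∃ h ∈ P, h * (y * u) = (y * u) * h ∧ h ∉ Subgroup.center G := by
    by_contra hcon
    push_neg at hcon
    have hle : Subgroup.centralizer ({y * u} : Set G) ⊓ P ≤ P ⊓ Subgroup.center G := by
      intro x hx
      refine ⟨hx.2, hcon x hx.2 ?_⟩
      exact (Subgroup.mem_centralizer_iff.mp hx.1 (y * u) rfl).symm
    have h1 := card_inf_mul_relIndex' (Subgroup.centralizer ({y * u} : Set G)) P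
    rw [hidx_v, hmp] at h1
    have h2 := Subgroup.card_le_of_le hle
    have hz : 0 < Nat.card ↥(P ⊓ Subgroup.center G) := Nat.card_pos
    have hp2 := hpp.two_le
    have h3 : p ^ 2 * Nat.card ↥(P ⊓ Subgroup.center G) ≤
        Nat.card ↥(P ⊓ Subgroup.center G) * p := by
      rw [← hcard, ← h1]
      exact Nat.mul_le_mul_right p h2
    have h4 : p * (p * Nat.card ↥(P ⊓ Subgroup.center G)) ≤
        1 * (p * Nat.card ↥(P ⊓ Subgroup.center G)) := by linarith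
    have h5 := Nat.le_of_mul_le_mul_right h4 (Nat.mul_pos hpp.pos hz)
    omega
  -- conjugation by `h` commutes with conjugation by `g`
  have hcg : ∀ x : G, h * (g * x * g⁻¹) * h⁻¹ = g * (h * x * h⁻¹) * g⁻¹ := by
    intro x
    have hz := hcomm h hhP g hgP
    have hz' := Subgroup.mem_center_iff.mp hz (g * (h * x * h⁻¹) * g⁻¹)
    have h1 : h * (g * x * g⁻¹) * h⁻¹ = (h * g * h⁻¹ * g⁻¹) * (g * (h * x * h⁻¹) * g⁻¹) *
        (h * g * h⁻¹ * g⁻¹)⁻¹ := by group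
    rw [h1, ← hz', mul_inv_cancel_right]
  have hy'Q : h * y * h⁻¹ ∈ Q := hQn.conj_mem y hyQ h
  have hu'Q : h * u * h⁻¹ ∈ Q := hQn.conj_mem u huQ h
  have hq'Q : h * q0 * h⁻¹ ∈ Q := hQn.conj_mem q0 hq0 h
  have hyu : (h * y * h⁻¹) * (h * u * h⁻¹) = y * u := by
    have h1 : (h * y * h⁻¹) * (h * u * h⁻¹) = h * (y * u) * h⁻¹ := by group
    rw [h1, hhv, mul_inv_cancel_right]
  have hgy'' : g * (h * y * h⁻¹) * g⁻¹ = h * y * h⁻¹ := by
    rw [← hcg, hgy', mul_inv_cancel_right]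
  have hcdef : y⁻¹ * (h * y * h⁻¹) = u * (h * u * h⁻¹)⁻¹ := by
    have h1 : y⁻¹ * (h * y * h⁻¹) =
        y⁻¹ * ((h * y * h⁻¹) * (h * u * h⁻¹)) * (h * u * h⁻¹)⁻¹ := by
      rw [mul_assoc y⁻¹, mul_inv_cancel_right]
    rw [h1, hyu, ← mul_assoc, inv_mul_cancel, one_mul]
  have hcQ : y⁻¹ * (h * y * h⁻¹) ∈ Q := Q.mul_mem (Q.inv_mem hyQ) hy'Q
  have hgc : g * (y⁻¹ * (h * y * h⁻¹)) = (y⁻¹ * (h * y * h⁻¹)) * g := by
    have h1 : g * (h * y * h⁻¹) = (h * y * h⁻¹) * g := by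
      have h2 := congrArg (fun t => t * g) hgy''
      simp only [inv_mul_cancel_right] at h2
      exact h2
    have h2 : g * y⁻¹ = y⁻¹ * g := by
      have h3 : Commute g y := hgy'
      exact h3.inv_right.eq
    calc g * (y⁻¹ * (h * y * h⁻¹)) = (g * y⁻¹) * (h * y * h⁻¹) := (mul_assoc _ _ _).symm
      _ = y⁻¹ * (g * (h * y * h⁻¹)) := by rw [h2, mul_assoc]
      _ = (y⁻¹ * (h * y * h⁻¹)) * g := by rw [h1, ← mul_assoc]
  have hgu' : g * (h * q0 * h⁻¹) * g⁻¹ = (h * q0 * h⁻¹) * (h * u * h⁻¹) := by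
    rw [← hcg, hxu]
    group
  have hc1 : y⁻¹ * (h * y * h⁻¹) = 1 := by
    apply key (q0 * (h * q0 * h⁻¹)⁻¹) (Q.mul_mem hq0 (Q.inv_mem hq'Q)) _ hcQ _ hgc
    have h1 : g * (q0 * (h * q0 * h⁻¹)⁻¹) * g⁻¹ =
        (g * q0 * g⁻¹) * (g * (h * q0 * h⁻¹) * g⁻¹)⁻¹ := by group
    rw [h1, hxu, hgu', hcdef]
    have h2 : (u * (h * u * h⁻¹)⁻¹) * (h * q0 * h⁻¹)⁻¹ =
        (h * q0 * h⁻¹)⁻¹ * (u * (h * u * h⁻¹)⁻¹) :=
      hQc _ (Q.mul_mem huQ (Q.inv_mem hu'Q)) _ (Q.inv_mem hq'Q)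
    calc q0 * u * ((h * q0 * h⁻¹) * (h * u * h⁻¹))⁻¹
        = q0 * ((u * (h * u * h⁻¹)⁻¹) * (h * q0 * h⁻¹)⁻¹) := by group
      _ = q0 * ((h * q0 * h⁻¹)⁻¹ * (u * (h * u * h⁻¹)⁻¹)) := by rw [h2]
      _ = q0 * (h * q0 * h⁻¹)⁻¹ * (u * (h * u * h⁻¹)⁻¹) := by group
  -- `h` fixes `y` and `u`
  have hhy : h * y = y * h := by
    have h1 : h * y * h⁻¹ = y := by
      have h2 := congrArg (fun t => y * t) hc1
      simp only [mul_inv_cancel_left, mul_one] at h2
      exact h2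
    have h2 := congrArg (fun t => t * h) h1
    simp only [inv_mul_cancel_right] at h2
    exact h2
  have hhu : h * u = u * h := by
    have h1 := hhv
    rw [← mul_assoc, hhy, mul_assoc, mul_assoc] at h1
    exact mul_left_cancel h1
  have hhg : h * g = g * h := (hgy h hhP).mpr hhy
  have huZ : u ∉ Subgroup.center G := fun hz => hgu (Subgroup.mem_center_iff.mp hz g)
  obtain ⟨hidx_u, hab_u⟩ := hE7 m n Q P p hS u huQ huZ
  obtain ⟨hidx_h, -, -⟩ := hII12 m n Q P p hS hII h hhP hhZ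
  have hle : Subgroup.centralizer ({u} : Set G) ⊓ P ≤ Subgroup.centralizer ({h} : Set G) ⊓ P := by
    intro a ha
    refine Subgroup.mem_inf.mpr ⟨?_, ha.2⟩
    rw [Subgroup.mem_centralizer_iff]
    intro t ht
    rw [Set.mem_singleton_iff] at ht
    rw [ht]
    have hau : a * u = u * a := (Subgroup.mem_centralizer_iff.mp ha.1 u rfl).symm
    exact (hab_u a ha.2 hau h hhP hhu).symm
  have hc1' := card_inf_mul_relIndex' (Subgroup.centralizer ({u} : Set G)) P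
  have hc2' := card_inf_mul_relIndex' (Subgroup.centralizer ({h} : Set G)) P
  rw [hidx_u] at hc1'
  rw [hidx_h] at hc2'
  have hmpos : 0 < m := by
    rw [hmp]
    exact hpp.pos
  have hcardle : Nat.card ↥(Subgroup.centralizer ({h} : Set G) ⊓ P) ≤
      Nat.card ↥(Subgroup.centralizer ({u} : Set G) ⊓ P) := by
    have h1 : Nat.card ↥(Subgroup.centralizer ({h} : Set G) ⊓ P) * m =
        Nat.card ↥(Subgroup.centralizer ({u} : Set G) ⊓ P) * m := by rw [hc1', hc2']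
    exact le_of_eq (Nat.eq_of_mul_eq_mul_right hmpos h1)
  have heq := Subgroup.eq_of_le_of_card_ge hle hcardle
  have hgmem : g ∈ Subgroup.centralizer ({h} : Set G) ⊓ P := by
    refine Subgroup.mem_inf.mpr ⟨?_, hgP⟩
    rw [Subgroup.mem_centralizer_iff]
    intro t ht
    rw [Set.mem_singleton_iff] at ht
    rw [ht]
    exact hhg
  rw [← heq] at hgmem
  exact hgu (Subgroup.mem_centralizer_iff.mp hgmem.1 u rfl).symm

end Cfsg.Agent.Lib.Helper90.CS3
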